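import Groth.Agent.DimTheory.Fibre
import Groth.Agent.DimTheory.GenFibre
import Groth.Agent.DimTheory.IrrFibres
import Mathlib.AlgebraicGeometry.Morphisms.UniversallyOpen

/-!
# Dimensions of fibres of flat morphisms of algebraic schemes
-/

set_option autoImplicit false

universe u

open CategoryTheory CategoryTheory.Limits AlgebraicGeometry TopologicalSpace

namespace Groth.Agent.FlatDim

open DimTheory

variable {X : Scheme.{u}}

theorem closure_mem_irreducibleComponents {m : X} (hm : ∀ y : X, y ⤳ m → y = m) :
    closure {m} ∈ irreducibleComponents (X : Type u) := by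
  refine ⟨isIrreducible_singleton.closure, fun T hT hle => ?_⟩
  have hm' : m ∈ T := hle (subset_closure rfl)
  have e := hT.closure.closure_genericPoint isClosed_closure
  have hg : hT.closure.genericPoint ⤳ m := by
    rw [specializes_iff_mem_closure, e]
    exact subset_closure hm'
  have := hm _ hg
  calc T ⊆ closure T := subset_closure
    _ = closure {hT.closure.genericPoint} := e.symm
    _ = closure {m} := by rw [this]

/-- Dimensions of irreducible components are heights of maximal points. -/
theorem forall_components_iff (c : WithBot ℕ∞) :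
    (∀ Z ∈ irreducibleComponents (X : Type u), topologicalKrullDim Z = c) ↔
      ∀ m : X, (∀ y : X, y ⤳ m → y = m) → (Order.height m : WithBot ℕ∞) = c := by
  constructor
  · intro h m hm
    rw [← h _ (closure_mem_irreducibleComponents hm), topologicalKrullDim_closure]
  · intro h Z hZ
    rw [← h _ (mem_component_isMax hZ), ← topologicalKrullDim_closure, component_eq_closure hZ]

theorem lt_of_specializes_of_ne {a b : X} (h : b ⤳ a) (hne : a ≠ b) : a < b :=
  lt_of_le_not_ge h fun h' => hne (Specializes.antisymm (show a ⤳ b from h') h).eq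

variable {k : Type u} [Field k] {Y : Scheme.{u}}
  (q : Y ⟶ Spec (CommRingCat.of k)) [LocallyOfFiniteType q] (f : X ⟶ Y) [LocallyOfFiniteType f]

omit [LocallyOfFiniteType f] in
theorem eq_fiberι_of_isMax {y : Y} {z : f.fiber y} (hz : ∀ w, w ⤳ z → w = z) {x : X}
    (hx : x ⤳ f.fiberι y z) (hfx : f x = y) : x = f.fiberι y z := by
  obtain ⟨w, rfl⟩ : x ∈ Set.range (f.fiberι y) := by rw [f.range_fiberι]; exact hfx
  rw [hz w ((f.fiberι y).isEmbedding.isInducing.specializes_iff.1 hx)]

omit [LocallyOfFiniteType f] in
theorem f_fiberι (y : Y) (z : f.fiber y) : f (f.fiberι y z) = y := by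
  have : f.fiberι y z ∈ Set.range (f.fiberι y) := ⟨z, rfl⟩
  rw [f.range_fiberι] at this
  exact this

include q in
/-- Above a maximal point of a fibre, components are small. -/
theorem height_le_fibre_add {y : Y} {z : f.fiber y} (hz : ∀ w, w ⤳ z → w = z) {ξ : X}
    (hξ : ξ ⤳ f.fiberι y z) : Order.height ξ ≤ Order.height z + Order.height (f ξ) := by
  obtain ⟨x', -, hx'x, hfx', hle⟩ := exists_generization_height_ge q f hξ
  obtain rfl := eq_fiberι_of_isMax f hz hx'x (hfx'.trans (f_fiberι f y z))
  rw [height_fiberι f q y z, f_fiberι f y z, add_comm (Order.height y), add_right_comm] at hle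
  exact (WithTop.add_le_add_iff_right (height_lt_top q y).ne).1 hle

variable [Flat f]

omit [LocallyOfFiniteType f] in
theorem isMax_image {ξ : X} (hξ : ∀ y : X, y ⤳ ξ → y = ξ) : ∀ y : Y, y ⤳ f ξ → y = f ξ := fun y hy => by
  obtain ⟨x, hx, rfl⟩ := Flat.generalizingMap f hy
  rw [hξ x hx]

include q in
/-- Chains in the base lift along flat morphisms. -/
theorem exists_lift {η : Y} {x : X} (hη : η ⤳ f x) :
    ∃ ξ : X, ξ ⤳ x ∧ f ξ = η ∧
      Order.height x + Order.height η ≤ Order.height ξ + Order.height (f x) := by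
  suffices ∀ (d : ℕ) (x : X), η ⤳ f x → Order.height η ≤ Order.height (f x) + d →
      ∃ ξ : X, ξ ⤳ x ∧ f ξ = η ∧
        Order.height x + Order.height η ≤ Order.height ξ + Order.height (f x) by
    obtain ⟨n, -, hn⟩ := exists_height_eq q η
    exact this n x hη (by rw [hn]; exact le_add_self)
  intro d
  induction d with
  | zero =>
    intro x hη h
    by_cases he : f x = η
    · exact ⟨x, specializes_rfl, he, by rw [he]⟩
    · have h' : Order.height (f x) < Order.height η :=
        Order.height_strictMono (lt_of_specializes_of_ne hη he) (height_lt_top q _)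
      rw [Nat.cast_zero, add_zero] at h
      exact absurd h h'.not_ge
  | succ d ih =>
    intro x hη h
    by_cases he : f x = η
    · exact ⟨x, specializes_rfl, he, by rw [he]⟩
    have hlt : f x < η := lt_of_specializes_of_ne hη he
    obtain ⟨z, hz, hmin⟩ := (wellFounded_lt (α := ℕ∞)).onFun (f := Order.height (α := Y)) |>.has_min
      {z : Y | f x < z ∧ z ≤ η} ⟨η, hlt, le_rfl⟩
    have hcov : f x ⋖ z := ⟨hz.1, fun w h1 h2 => hmin w ⟨h1, h2.le.trans hz.2⟩
      (Order.height_strictMono h2 (height_lt_top q w))⟩
    have hzc := height_eq_add_one_of_covBy q hcov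
    obtain ⟨x', hx', hfx'⟩ := Flat.generalizingMap f (show z ⤳ f x from hz.1.le)
    have h1 : Order.height x + 1 ≤ Order.height x' :=
      Order.height_add_one_le (lt_of_specializes_of_ne hx'
        (fun e => hz.1.ne (by rw [e, hfx'])))
    obtain ⟨ξ, hξ, hfξ, hle⟩ := ih x' (hfx' ▸ (show η ⤳ z from hz.2)) (by
      rw [hfx', hzc, add_assoc, add_comm (1 : ℕ∞)]
      exact h.trans (le_of_eq (by push_cast; rfl)))
    refine ⟨ξ, hξ.trans hx', hfξ, ?_⟩
    rw [hfx', hzc] at hle
    have h2 : Order.height x + 1 + Order.height η ≤ Order.height ξ + (Order.height (f x) + 1) :=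
      (add_le_add h1 le_rfl).trans hle
    rw [add_right_comm, ← add_assoc] at h2
    exact (WithTop.add_le_add_iff_right ENat.one_ne_top).1 h2

include q in
/-- Components of `X` have relative dimension `n` iff all components of all fibres have dimension `n`. -/
theorem equidim_iff (d n : ℕ)
    (hY : ∀ η : Y, (∀ y : Y, y ⤳ η → y = η) → Order.height η = d) :
    (∀ ξ : X, (∀ y : X, y ⤳ ξ → y = ξ) → Order.height ξ = (d + n : ℕ)) ↔
      ∀ (y : Y) (z : f.fiber y), (∀ w, w ⤳ z → w = z) → Order.height z = n := by
  constructor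
  · intro h y z hz
    obtain ⟨η, hηy, hη⟩ := FlatMorLib.exists_maximal_generization y
    obtain ⟨ξ₀, hξ₀, hfξ₀, hlift⟩ := exists_lift q f (η := η) (x := f.fiberι y z)
      (by rw [f_fiberι]; exact hηy)
    obtain ⟨ξ, hξξ₀, hξ⟩ := FlatMorLib.exists_maximal_generization ξ₀
    have hle := height_le_fibre_add q f hz (hξξ₀.trans hξ₀)
    have hmono : Order.height ξ₀ ≤ Order.height ξ := Order.height_mono (show ξ₀ ≤ ξ from hξξ₀)
    have hfξ : f ξ = η := hη _ ((hξξ₀.map f.continuous).trans (specializes_of_eq hfξ₀))
    rw [h ξ hξ, hfξ, hY η hη] at hle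
    have hlift' := hlift.trans (add_le_add hmono le_rfl)
    rw [h ξ hξ, height_fiberι f q y z, f_fiberι f y z, hY η hη] at hlift'
    have : LocallyOfFiniteType (f.fiberToSpecResidueField y) :=
      MorphismProperty.pullback_snd _ _ ‹LocallyOfFiniteType f›
    obtain ⟨b, -, hb⟩ := exists_height_eq q y
    obtain ⟨c, -, hc⟩ := exists_height_eq (k := Y.residueField y) (f.fiberToSpecResidueField y) z
    rw [hc] at hle hlift' ⊢
    rw [hb] at hlift'
    norm_cast at hle hlift' ⊢
    omega
  · intro h ξ hξ
    have hmax : ∀ w, w ⤳ f.asFiber ξ → w = f.asFiber ξ := fun w hw =>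
      (f.fiberι (f ξ)).isEmbedding.injective (by
        rw [f.fiberι_asFiber]
        exact hξ _ (by simpa using hw.map (f.fiberι (f ξ)).continuous))
    have := height_fiberι f q (f ξ) (f.asFiber ξ)
    rw [f.fiberι_asFiber] at this
    rw [this, h _ _ hmax, hY _ (isMax_image f hξ)]
    norm_cast

theorem eq_genericPoint {X : Scheme.{u}} [IrreducibleSpace X] {η : X} (h : ∀ y : X, y ⤳ η → y = η) :
    η = genericPoint X := (h _ (genericPoint_specializes η)).symm

theorem genericPoint_isMax {X : Scheme.{u}} [IrreducibleSpace X] :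
    ∀ y : X, y ⤳ genericPoint X → y = genericPoint X := fun _ h =>
  (h.antisymm (genericPoint_specializes _)).eq

end Groth.Agent.FlatDim
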