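import Groth.Agent.FlatDim.Basic
import Groth.Agent.FieldExtDim.Equidim

/-!
# Fibre dimensions after base change
-/

set_option autoImplicit false

universe u

open CategoryTheory CategoryTheory.Limits AlgebraicGeometry TopologicalSpace

namespace Groth.Agent.FlatDim

variable {X Y X' Y' : Scheme.{u}}

/-- If all components of a fibre have dimension `n`, so have those of the base changed fibre. -/
theorem fibre_height_baseChange (f : X ⟶ Y) [LocallyOfFiniteType f] {g : Y' ⟶ Y} {f' : X' ⟶ Y'}
    {g' : X' ⟶ X} (hc : IsPullback g' f' f g) (y' : Y') (n : ℕ∞)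
    (hn : ∀ z : f.fiber (g y'), (∀ w, w ⤳ z → w = z) → Order.height z = n)
    (z : f'.fiber y') (hz : ∀ w, w ⤳ z → w = z) : Order.height z = n := by
  letI : Algebra (Y.residueField (g y')) (Y'.residueField y') := (g.residueFieldMap y').hom.toAlgebra
  let q := f.fiberToSpecResidueField (g y')
  have : LocallyOfFiniteType q := MorphismProperty.pullback_snd _ _ ‹LocallyOfFiniteType f›
  have h := isPullback_fiberToSpecResidueField_of_isPullback hc y'
  let e := h.isoPullback
  let b := Spec.map (CommRingCat.ofHom (algebraMap (Y.residueField (g y')) (Y'.residueField y')))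
  have : LocallyOfFiniteType (pullback.snd q b) := MorphismProperty.pullback_snd _ _ inferInstance
  have hmax : ∀ v, v ⤳ e.hom z → v = e.hom z := fun v hv => by
    obtain ⟨v, rfl⟩ := e.hom.homeomorph.surjective v
    exact congrArg e.hom (hz v (e.hom.homeomorph.isInducing.specializes_iff.1 hv))
  obtain ⟨h1, h2⟩ := FieldExtDim.height_of_isMax (k := Y.residueField (g y'))
    (K := Y'.residueField y') q (e.hom z) hmax
  exact (FieldExtDim.height_openImmersion (F := Y'.residueField y') (pullback.snd q b) e.hom z).symm.trans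
    (h2.trans (hn _ h1))

/-- Components of the preimage of an irreducible closed subset. -/
theorem dim_component_preimage {k : Type u} [Field k] (qX : X ⟶ Spec (CommRingCat.of k))
    (qY : Y ⟶ Spec (CommRingCat.of k)) [LocallyOfFiniteType qY]
    (f : X ⟶ Y) [LocallyOfFiniteType f] [Flat f] (n : ℕ∞) (V : Set Y) (hV : IsClosed V)
    (hVirr : IsIrreducible V) (hn : ∀ (y : Y) (z : f.fiber y), (∀ w, w ⤳ z → w = z) → Order.height z = n)
    (W : Set ↥(f.base ⁻¹' V)) (hW : W ∈ irreducibleComponents ↥(f.base ⁻¹' V)) :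
    topologicalKrullDim W = topologicalKrullDim V + (n : WithBot ℕ∞) := by
  have hT : IsClosed (f.base ⁻¹' V) := hV.preimage f.continuous
  let W' : Set X := Subtype.val '' W
  have hW'i : IsIrreducible W' := hW.1.image _ continuous_subtype_val.continuousOn
  have hW'c : IsClosed W' :=
    hT.isClosedEmbedding_subtypeVal.isClosedMap _ (isClosed_of_mem_irreducibleComponents W hW)
  have hgen := hW'i.closure_genericPoint hW'c
  set w := hW'i.genericPoint
  have hwW : w ∈ W' := hgen ▸ subset_closure rfl
  have hwT : w ∈ f.base ⁻¹' V := by obtain ⟨a, -, ha⟩ := hwW; exact ha ▸ a.2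
  have hmax : ∀ v : X, v ⤳ w → f v ∈ V → v = w := by
    intro v hv hvV
    have hcl : closure {v} ⊆ f.base ⁻¹' V :=
      (hT.closure_subset_iff).2 (Set.singleton_subset_iff.2 hvV)
    let W₂ : Set ↥(f.base ⁻¹' V) := Subtype.val ⁻¹' closure {v}
    have hW₂ : IsIrreducible W₂ :=
      ⟨⟨⟨v, hvV⟩, subset_closure rfl⟩,
        TopDimLib.isPreirreducible_preimage_val isIrreducible_singleton.closure.2 hcl⟩
    have hsub : W ⊆ W₂ := fun a ha => by
      have : a.1 ∈ closure {w} := hgen.symm ▸ ⟨a, ha, rfl⟩
      exact closure_minimal (Set.singleton_subset_iff.2 (specializes_iff_mem_closure.1 hv))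
        isClosed_closure this
    have hv' : (⟨v, hvV⟩ : ↥(f.base ⁻¹' V)) ∈ W := hW.2 hW₂ hsub (subset_closure rfl)
    have : v ∈ closure {w} := hgen.symm ▸ ⟨_, hv', rfl⟩
    exact (hv.antisymm (specializes_iff_mem_closure.2 this)).eq
  let ν := hVirr.genericPoint
  have hνc := hVirr.closure_genericPoint hV
  obtain ⟨w', hw', hfw'⟩ := Flat.generalizingMap f
    (show ν ⤳ f w from specializes_iff_mem_closure.2 (hνc.symm ▸ hwT))
  have hfw : f w = ν := by
    rw [← hmax w' hw' (hfw' ▸ (hνc ▸ subset_closure rfl))]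
    exact hfw'
  obtain ⟨z, hzw⟩ : w ∈ Set.range (f.fiberι ν) := by rw [f.range_fiberι]; exact hfw
  have hzmax : ∀ v, v ⤳ z → v = z := fun v hv => (f.fiberι ν).isEmbedding.injective (by
    have := hmax (f.fiberι ν v) (hzw ▸ hv.map (f.fiberι ν).continuous)
      (by rw [f_fiberι]; exact hνc ▸ subset_closure rfl)
    rw [this, hzw])
  have hdW : topologicalKrullDim W = topologicalKrullDim W' :=
    ((Topology.IsEmbedding.subtypeVal.comp Topology.IsEmbedding.subtypeVal).toHomeomorph.trans
      (Homeomorph.setCongr (by rw [Set.range_comp, Subtype.range_coe]))).isHomeomorph.topologicalKrullDim_eq _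
  rw [hdW, ← hgen, ← hνc, DimTheory.topologicalKrullDim_closure, DimTheory.topologicalKrullDim_closure,
    ← hzw, DimTheory.height_fiberι f qY ν z, hn ν z hzmax]
  rfl

end Groth.Agent.FlatDim
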